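import Mathlib.GroupTheory.Solvable
import Mathlib.GroupTheory.PGroup
import Mathlib.GroupTheory.Subgroup.Centralizer
import Mathlib.GroupTheory.QuotientGroup.Basic
import Mathlib.GroupTheory.Index

/-!
# Chief steps above a normal subgroup with solvable quotient
-/

set_option autoImplicit false

namespace CfsgLib.Chars.Quasiprimitive

open Subgroup
open scoped commutatorElement

variable {G : Type*} [Group G] [Finite G]

/-- A chief step `K < M` with abelian factor. -/
structure ChiefStep (K M : Subgroup G) : Prop where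
  normal : M.Normal
  lt : K < M
  comm : ⁅M, M⁆ ≤ K
  minimal : ∀ X : Subgroup G, X.Normal → K ≤ X → X ≤ M → X = K ∨ X = M

theorem exists_chiefStep (K : Subgroup G) [K.Normal] (hK : K ≠ ⊤)
    (hsolv : Group.IsSolvable (G ⧸ K)) : ∃ M : Subgroup G, ChiefStep K M := by
  classical
  haveI : Finite (Subgroup G) := Finite.of_injective _ SetLike.coe_injective
  set S : Set (Subgroup G) := {M | M.Normal ∧ K < M} with hS
  obtain ⟨M, ⟨hMn, hKM⟩, hmin⟩ :=
    (Set.toFinite S).exists_minimal ⟨⊤, Subgroup.normal_of_characteristic ⊤, lt_top_iff_ne_top.2 hK⟩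
  have hminimal : ∀ X : Subgroup G, X.Normal → K ≤ X → X ≤ M → X = K ∨ X = M := by
    intro X hX hKX hXM
    rcases hKX.lt_or_eq with h | h
    · exact Or.inr (le_antisymm hXM (hmin ⟨hX, h⟩ hXM))
    · exact Or.inl h.symm
  refine ⟨M, hMn, hKM, ?_, hminimal⟩
  haveI := hMn
  rcases hminimal (⁅M, M⁆ ⊔ K) inferInstance le_sup_right
    (sup_le (Subgroup.commutator_le_right M M) hKM.le) with h | h
  · exact le_sup_left.trans h.le
  · exfalso
    haveI := hsolv
    have hne : M.map (QuotientGroup.mk' K) ≠ ⊥ := by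
      intro hb
      rw [Subgroup.map_eq_bot_iff, QuotientGroup.ker_mk'] at hb
      exact hKM.not_ge hb
    refine (IsSolvable.commutator_lt_of_ne_bot hne).ne ?_
    conv_rhs => rw [← h, Subgroup.map_sup, QuotientGroup.map_mk'_self, sup_bot_eq,
      Subgroup.map_commutator]

theorem isSolvable_quotient_of_le {L K : Subgroup G} [L.Normal] [K.Normal] (h : L ≤ K)
    (hsolv : Group.IsSolvable (G ⧸ L)) : Group.IsSolvable (G ⧸ K) := by
  haveI := hsolv
  refine solvable_of_surjective (f := QuotientGroup.map L K (MonoidHom.id G) (by simpa using h)) ?_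
  intro x
  obtain ⟨g, rfl⟩ := QuotientGroup.mk'_surjective K x
  exact ⟨QuotientGroup.mk' L g, rfl⟩

theorem mk_commute {K M : Subgroup G} [K.Normal] (hc : ⁅M, M⁆ ≤ K) {x y : G} (hx : x ∈ M)
    (hy : y ∈ M) : Commute (x : G ⧸ K) (y : G ⧸ K) := by
  have h : ⁅x, y⁆ ∈ K := hc (Subgroup.commutator_mem_commutator hx hy)
  rw [← QuotientGroup.eq_one_iff, commutatorElement_def] at h
  simp only [QuotientGroup.mk_mul, QuotientGroup.mk_inv] at h
  exact commutatorElement_eq_one_iff_commute.1 h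

/-- A prime dividing the order of an abelian chief factor is its exponent. -/
theorem ChiefStep.isPGroup {K M : Subgroup G} [K.Normal] (h : ChiefStep K M) {p : ℕ}
    [hp : Fact p.Prime] (hdvd : p ∣ K.relIndex M) : IsPGroup p (M.map (QuotientGroup.mk' K)) := by
  let X : Subgroup G :=
    { carrier := {x | x ∈ M ∧ (x : G ⧸ K) ^ p = 1}
      one_mem' := ⟨M.one_mem, by simp⟩
      mul_mem' := fun {a b} ha hb => ⟨M.mul_mem ha.1 hb.1, by
        rw [QuotientGroup.mk_mul, (mk_commute h.comm ha.1 hb.1).mul_pow, ha.2, hb.2, one_mul]⟩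
      inv_mem' := fun {a} ha => ⟨M.inv_mem ha.1, by
        rw [QuotientGroup.mk_inv, inv_pow, ha.2, inv_one]⟩ }
  have hXn : X.Normal := ⟨fun x hx g => ⟨h.normal.conj_mem x hx.1 g, by
    rw [QuotientGroup.mk_mul, QuotientGroup.mk_mul, QuotientGroup.mk_inv, conj_pow, hx.2]
    simp⟩⟩
  have hKX : K ≤ X := fun x hx => ⟨h.lt.le hx, by
    rw [(QuotientGroup.eq_one_iff x).2 hx, one_pow]⟩
  rcases h.minimal X hXn hKX fun x hx => hx.1 with hX | hX
  · exfalso
    have hcard : p ∣ Nat.card (M.map (QuotientGroup.mk' K)) := by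
      rwa [← Subgroup.relIndex_ker, QuotientGroup.ker_mk']
    obtain ⟨⟨y, hy⟩, hord⟩ := exists_prime_orderOf_dvd_card' p hcard
    obtain ⟨x, hx, rfl⟩ := hy
    rw [← Subgroup.orderOf_coe] at hord
    change orderOf (QuotientGroup.mk' K x) = p at hord
    have hxX : x ∈ X := by
      refine ⟨hx, ?_⟩
      show (QuotientGroup.mk' K x) ^ p = 1
      rw [← hord]
      exact pow_orderOf_eq_one _
    rw [hX, ← QuotientGroup.eq_one_iff] at hxX
    rw [show QuotientGroup.mk' K x = 1 from hxX, orderOf_one] at hord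
    exact hp.out.ne_one hord.symm
  · rintro ⟨_, x, hx, rfl⟩
    refine ⟨1, Subtype.ext ?_⟩
    rw [← hX] at hx
    rw [pow_one]
    exact hx.2

/-- Two chief steps of the same characteristic centralise. -/
theorem ChiefStep.commutator_le_of_not_coprime {K M N : Subgroup G} [K.Normal] [M.Normal]
    (h₁ : ChiefStep K M) (h₂ : ChiefStep M N)
    (hnc : ¬ Nat.Coprime (K.relIndex M) (M.relIndex N)) : ⁅M, N⁆ ≤ K := by
  obtain ⟨p, hp, hp1, hp2⟩ := Nat.Prime.not_coprime_iff_dvd.1 hnc
  haveI : Fact p.Prime := ⟨hp⟩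
  haveI := h₂.normal
  have hMb := h₁.isPGroup hp1
  have hNbM := h₂.isPGroup hp2
  set q := QuotientGroup.mk' K with hq
  have hcardN : Nat.card (N.map q) = K.relIndex N := by
    rw [← Subgroup.relIndex_ker, hq, QuotientGroup.ker_mk']
  have hNb : IsPGroup p (N.map q) := by
    obtain ⟨a, ha⟩ := IsPGroup.iff_card.1 hMb
    obtain ⟨b, hb⟩ := IsPGroup.iff_card.1 hNbM
    rw [← Subgroup.relIndex_ker, QuotientGroup.ker_mk'] at ha hb
    refine IsPGroup.iff_card.2 ⟨a + b, ?_⟩
    rw [hcardN, ← Subgroup.relIndex_mul_relIndex K M N h₁.lt.le h₂.lt.le, ha, hb, pow_add]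
  set Mb := M.map q with hMbdef
  set Nb := N.map q with hNbdef
  haveI hMbn : Mb.Normal := Subgroup.Normal.map inferInstance q (QuotientGroup.mk'_surjective K)
  haveI hNbn : Nb.Normal := Subgroup.Normal.map inferInstance q (QuotientGroup.mk'_surjective K)
  -- a nontrivial element of `Mb` centralised by `Nb`
  letI : MulAction Nb Mb :=
    { smul := fun n m => ⟨(n : G ⧸ K) * m * (n : G ⧸ K)⁻¹, hMbn.conj_mem _ m.2 _⟩
      one_smul := fun m => Subtype.ext (show ((1 : Nb) : G ⧸ K) * m * ((1 : Nb) : G ⧸ K)⁻¹ = _ by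
        simp)
      mul_smul := fun a b m => Subtype.ext
        (show ((a * b : Nb) : G ⧸ K) * m * ((a * b : Nb) : G ⧸ K)⁻¹ =
          (a : G ⧸ K) * ((b : G ⧸ K) * m * (b : G ⧸ K)⁻¹) * (a : G ⧸ K)⁻¹ by push_cast; group) }
  have hone : (1 : Mb) ∈ MulAction.fixedPoints Nb Mb := fun n =>
    Subtype.ext (show (n : G ⧸ K) * ((1 : Mb) : G ⧸ K) * (n : G ⧸ K)⁻¹ = _ by simp)
  have hpM : p ∣ Nat.card Mb := by
    rwa [hMbdef, ← Subgroup.relIndex_ker, hq, QuotientGroup.ker_mk']
  obtain ⟨b, hb, hb1⟩ := hNb.exists_fixed_point_of_prime_dvd_card_of_fixed_point Mb hpM hone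
  -- the centralised part
  set Z := M ⊓ (Subgroup.centralizer (Nb : Set (G ⧸ K))).comap q with hZ
  have hKZ : K ≤ Z := fun x hx => ⟨h₁.lt.le hx, Subgroup.mem_comap.2 (by
    rw [show q x = 1 from (QuotientGroup.eq_one_iff x).2 hx]
    exact Subgroup.one_mem _)⟩
  have hZn : Z.Normal := by rw [hZ]; infer_instance
  obtain ⟨x, hxM, hxb⟩ := b.2
  have hxZ : x ∈ Z := ⟨hxM, Subgroup.mem_comap.2 <| by
    rw [hxb, Subgroup.mem_centralizer_iff]
    intro n hn
    have h := congrArg Subtype.val (hb ⟨n, hn⟩)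
    change n * (b : G ⧸ K) * n⁻¹ = _ at h
    exact mul_inv_eq_iff_eq_mul.1 h⟩
  rcases h₁.minimal Z hZn hKZ inf_le_left with hZK | hZM
  · exfalso
    rw [hZK, ← QuotientGroup.eq_one_iff] at hxZ
    exact hb1 (Subtype.ext (by rw [← hxb]; exact hxZ.symm))
  · rw [Subgroup.commutator_le]
    intro m hm n hn
    rw [← hZM] at hm
    rw [← QuotientGroup.eq_one_iff, commutatorElement_def]
    simp only [QuotientGroup.mk_mul, QuotientGroup.mk_inv]
    have hc := (Subgroup.mem_centralizer_iff.1 hm.2) (q n) ⟨n, hn, rfl⟩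
    exact commutatorElement_eq_one_iff_commute.2 (Eq.symm hc)

/-- The order of a normal supplement of `H`. -/
theorem card_eq_inf_mul_index {H X : Subgroup G} [X.Normal] (h : H ⊔ X = ⊤) :
    Nat.card X = Nat.card ↥(X ⊓ H) * H.index := by
  have h1 : X.index = (X ⊓ H).relIndex H := by
    rw [Subgroup.inf_relIndex_right, ← Subgroup.relIndex_top_right, ← h,
      Subgroup.relIndex_sup_right]
  have h2 : Nat.card ↥(X ⊓ H) * (X ⊓ H).relIndex H = Nat.card H := by
    rw [← Subgroup.relIndex_bot_left, ← Subgroup.relIndex_bot_left H,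
      Subgroup.relIndex_mul_relIndex _ _ _ bot_le inf_le_right]
  have h3 := Subgroup.card_mul_index H
  have h4 := Subgroup.card_mul_index X
  have hpos : 0 < X.index := Nat.pos_of_ne_zero Subgroup.index_ne_zero_of_finite
  refine Nat.eq_of_mul_eq_mul_right hpos ?_
  rw [h4, ← h3, ← h2, h1]
  ring

end CfsgLib.Chars.Quasiprimitive
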