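import Cfsg.Agent.Eq.Def_Characters
import Cfsg.Agent.Chars.Quasiprimitive.Chief
import Cfsg.Agent.CharExtend.Basic
import Cfsg.Agent.Chars.Induced.Mult
import Cfsg.Agent.Chars.Induced.Conj
import Cfsg.Agent.S0887

/-!
# An irreducible character induced from a maximal subgroup with irreducible restriction below
-/

set_option autoImplicit false

noncomputable section

open scoped ComplexConjugate commutatorElement

namespace CfsgLib.Chars.Quasiprimitive

open Cfsg CfsgLib.Chars.Induced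

/-- A character with irreducible composite along a homomorphism is irreducible. -/
theorem isIrrCharacter_of_comp {B C : Type*} [Group B] [Group C] [Finite C] (f : C →* B)
    {ψ : B → ℂ} (hψ : IsCharacter B ψ) (h : IsIrrCharacter C fun c => ψ (f c)) :
    IsIrrCharacter B ψ := by
  obtain ⟨m, ρ, hρ⟩ := hψ
  obtain ⟨n, σ, hσ, hσc⟩ := h
  have hc : Representation.character ((ρ.comp f : Representation ℂ C (Fin m → ℂ))) = σ.character := by
    rw [hσc, ← hρ]; rfl
  obtain ⟨rfl, T, hT⟩ := CfsgLib.CharExtend.exists_conj_of_char_eq σ hσ _ hc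
  simp only at hT
  set Te : (Fin m → ℂ) →ₗ[ℂ] (Fin m → ℂ) := (T : (Fin m → ℂ) →ₗ[ℂ] (Fin m → ℂ)) with hTe
  set Ti : (Fin m → ℂ) →ₗ[ℂ] (Fin m → ℂ) :=
    ((T⁻¹ : CfsgLib.CharExtend.Lin m) : (Fin m → ℂ) →ₗ[ℂ] (Fin m → ℂ)) with hTi
  have h1 : Ti * Te = 1 := T.inv_mul
  have h2 : Te * Ti = 1 := T.mul_inv
  let F : Representation ℂ B (Fin m → ℂ) :=
    { toFun := fun b => Ti * ρ b * Te
      map_one' := by rw [map_one, mul_one, h1]
      map_mul' := fun a b => by
        rw [map_mul, show Ti * ρ a * Te * (Ti * ρ b * Te) = Ti * ρ a * (Te * Ti) * ρ b * Te by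
          noncomm_ring, h2]
        noncomm_ring }
  have hF : ∀ c, F (f c) = σ c := fun c => by
    show Ti * ρ (f c) * Te = σ c
    rw [mul_assoc, show ρ (f c) * Te = Te * σ c from (hT c).symm, ← mul_assoc, h1, one_mul]
  have hchar : F.character = ρ.character := by
    funext b
    show LinearMap.trace ℂ _ (Ti * ρ b * Te) = LinearMap.trace ℂ _ (ρ b)
    rw [LinearMap.trace_mul_comm, ← mul_assoc, h2, one_mul]
  exact ⟨m, F, CfsgLib.CharExtend.irreducible_of_restrict f F σ hσ hF, hchar.trans hρ⟩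

variable {G : Type*} [Group G] [Fintype G]

open scoped Classical in
/-- The sum over a subgroup as a sum over the group. -/
theorem sum_subgroup_eq (A : Subgroup G) [Fintype A] {R : Type*} [AddCommMonoid R] (F : G → R) :
    ∑ a : A, F a = ∑ g : G, if g ∈ A then F g else 0 := by
  rw [← Finset.sum_filter]
  exact (Finset.sum_subtype (p := (· ∈ A)) (Finset.univ.filter (· ∈ A)) (fun x => by simp) F).symm

/-- The squared norms of an irreducible character add up to the order. -/
theorem sum_norm_sq {A : Type*} [Group A] [Fintype A] {ψ : A → ℂ} (h : IsIrrCharacter A ψ) :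
    ∑ a : A, ‖ψ a‖ ^ 2 = (Nat.card A : ℝ) := by
  have h1 := classInner_irr_self (⟨ψ, h⟩ : IrrCharacter A)
  simp only [classInner] at h1
  rw [inv_mul_eq_iff_eq_mul₀ card_ne_zero', mul_one] at h1
  apply Complex.ofReal_injective
  push_cast
  rw [← h1]
  exact Finset.sum_congr rfl fun a _ => (Complex.mul_conj' (ψ a)).symm

/-- The statement of S0890. -/
theorem exists_not_homogeneous (L H : Subgroup G) [L.Normal] (hLH : L ≤ H) (hmax : IsCoatom H)
    (hsolv : Group.IsSolvable (G ⧸ L)) (ϑ : H → ℂ) (hϑ : IsIrrCharacter H ϑ)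
    (hϑL : IsIrrCharacter L (fun x : L => ϑ ⟨(x : G), hLH x.2⟩))
    (hind : IsIrrCharacter G (indFun H ϑ)) :
    ∃ M : Subgroup G, M.Normal ∧ L ≤ M ∧ ¬ ∃ (φ : M → ℂ) (e : ℕ),
      IsIrrCharacter M φ ∧ (fun m : M => indFun H ϑ m) = (e : ℂ) • φ := by
  classical
  by_contra hcon
  push Not at hcon
  set χ := indFun H ϑ with hχ
  set F := extendByZero H ϑ with hF
  have hϑc : IsClassFunction H ϑ :=
    isClassFunction_of_isCharacter (CfsgLib.Chars.isCharacter_coe ⟨ϑ, hϑ⟩)
  have hFconj : ∀ (h : G), h ∈ H → ∀ g, F (h * g * h⁻¹) = F g := fun h hh g =>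
    extendByZero_conj hϑc ⟨h, hh⟩ g
  have hχcf : IsClassFunction G χ := indFun_isClassFunction H ϑ
  have hHcard : (Nat.card H : ℂ) ≠ 0 := card_subgroup_ne_zero H
  have hχval : ∀ g, (Nat.card H : ℂ) * χ g = ∑ x : G, F (x⁻¹ * g * x) := fun g => by
    rw [hχ, indFun, ← mul_assoc, mul_inv_cancel₀ hHcard, one_mul]
  have hχ1 : χ 1 ≠ 0 := CfsgLib.Chars.map_one_ne_zero ⟨χ, hind⟩
  -- irreducibility and norms on subgroups between `L` and `H`
  have hresirr : ∀ R : Subgroup G, L ≤ R → R ≤ H → IsIrrCharacter R fun r : R => F r := by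
    intro R hLR hRH
    have he : (fun r : R => F r) = fun r : R => ϑ (Subgroup.inclusion hRH r) := by
      funext r
      exact extendByZero_mem ϑ (hRH r.2)
    rw [he]
    exact isIrrCharacter_of_comp (Subgroup.inclusion hLR)
      (CfsgLib.Chars.isCharacter_comp (CfsgLib.Chars.isCharacter_coe ⟨ϑ, hϑ⟩)
        (Subgroup.inclusion hRH)) hϑL
  have hnorm : ∀ R : Subgroup G, L ≤ R → R ≤ H →
      ∑ g : G, (if g ∈ R then ‖F g‖ ^ 2 else 0) = (Nat.card R : ℝ) := fun R h1 h2 => by
    rw [← sum_subgroup_eq R (fun g => ‖F g‖ ^ 2)]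
    exact sum_norm_sq (hresirr R h1 h2)
  -- the core and the first chief step
  set K := H.normalCore with hKdef
  have hKH : K ≤ H := Subgroup.normalCore_le H
  have hLK : L ≤ K := Subgroup.normal_le_normalCore.2 hLH
  have hKtop : K ≠ ⊤ := fun h => hmax.1 (top_le_iff.1 (h ▸ hKH))
  have hsK := isSolvable_quotient_of_le hLK hsolv
  obtain ⟨M, hM⟩ := exists_chiefStep K hKtop hsK
  haveI := hM.normal
  have hLM : L ≤ M := hLK.trans hM.lt.le
  have hMH : ¬ M ≤ H := fun h => hM.lt.not_ge (Subgroup.normal_le_normalCore.2 h)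
  have hHM : H ⊔ M = ⊤ := hmax.2 _ (left_lt_sup.2 hMH)
  have hdec : ∀ g : G, ∃ h ∈ H, ∃ m ∈ M, h * m = g := fun g => by
    have hg : g ∈ (↑(H ⊔ M) : Set G) := by rw [hHM]; exact Subgroup.mem_top g
    rw [Subgroup.mul_normal] at hg
    exact Set.mem_mul.1 hg
  have hMK : M ⊓ H = K := by
    refine le_antisymm ?_ (le_inf hM.lt.le hKH)
    have hn : (M ⊓ H).Normal := by
      refine ⟨fun x hx g => ?_⟩
      obtain ⟨h, hh, m, hm, rfl⟩ := hdec g
      have hin : m * x * m⁻¹ ∈ M ⊓ H := by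
        have hc : ⁅m, x⁆ ∈ K := hM.comm (Subgroup.commutator_mem_commutator hm hx.1)
        rw [show m * x * m⁻¹ = ⁅m, x⁆ * x by rw [commutatorElement_def, inv_mul_cancel_right]]
        exact Subgroup.mul_mem _ ⟨hM.lt.le hc, hKH hc⟩ hx
      rw [show h * m * x * (h * m)⁻¹ = h * (m * x * m⁻¹) * h⁻¹ by group]
      exact ⟨hM.normal.conj_mem _ hin.1 h, H.mul_mem (H.mul_mem hh hin.2) (H.inv_mem hh)⟩
    exact Subgroup.normal_le_normalCore.2 inf_le_right
  set v := H.index with hv
  have hv1 : v ≠ 1 := fun h => hmax.1 (Subgroup.index_eq_one.1 h)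
  have hcardM : Nat.card M = Nat.card K * v := by rw [card_eq_inf_mul_index hHM, hMK]
  -- the character on `K`
  obtain ⟨φK, eK, hφK, hKeq⟩ := hcon K inferInstance hLK
  let φ₀ : IrrCharacter K := ⟨φK, hφK⟩
  let θ₀ : IrrCharacter K := ⟨fun k : K => F k, hresirr K hLK hKH⟩
  have heK : (eK : ℂ) ≠ 0 := by
    intro h0
    apply hχ1
    have := congrFun hKeq 1
    simpa [h0] using this
  have hinv : ∀ (g : G) (k : K), φK ⟨g * k * g⁻¹, (inferInstance : K.Normal).conj_mem _ k.2 g⟩ = φK k := by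
    intro g k
    have h1 := congrFun hKeq ⟨g * k * g⁻¹, (inferInstance : K.Normal).conj_mem _ k.2 g⟩
    have h2 := congrFun hKeq k
    simp only [Pi.smul_apply, smul_eq_mul] at h1 h2
    rw [hχcf, h2] at h1
    exact (mul_left_cancel₀ heK h1).symm
  have hψK : ∀ k : K, F k = φK k := by
    -- some conjugate of the restriction is `φK`
    by_contra hne
    have hall : ∀ x : G, (fun k : K => F (x⁻¹ * k * x)) ≠ φK := by
      intro x he
      apply hne
      intro k
      have h1 := congrFun he ⟨x * k * x⁻¹, (inferInstance : K.Normal).conj_mem _ k.2 x⟩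
      rw [hinv x k] at h1
      simpa [mul_assoc] using h1
    have hirr : ∀ x : G, IsIrrCharacter K fun k : K => F (x⁻¹ * k * x) := by
      intro x
      refine isIrrCharacter_of_comp (MulAut.conjNormal x).toMonoidHom
        (ψ := fun k : K => F (x⁻¹ * k * x)) ?_ ?_
      · have h := CfsgLib.Chars.isCharacter_comp (CfsgLib.Chars.isCharacter_coe θ₀)
          (MulAut.conjNormal x⁻¹ : MulAut K).toMonoidHom
        convert h using 1
        funext k
        simp [θ₀, MulAut.conjNormal_apply, mul_assoc]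
      · convert hresirr K hLK hKH using 1
        funext k
        simp [MulAut.conjNormal_apply, mul_assoc]
    have hz : classInner (fun k : K => ∑ x : G, F (x⁻¹ * k * x)) φK = 0 := by
      rw [show (fun k : K => ∑ x : G, F (x⁻¹ * k * x)) =
        ∑ x : G, fun k : K => F (x⁻¹ * k * x) by funext k; simp]
      rw [CfsgLib.Chars.Induced.classInner_sum_left]
      refine Finset.sum_eq_zero fun x _ => ?_
      exact classInner_irr_of_ne (χ := ⟨_, hirr x⟩) (η := φ₀)
        fun h => hall x (congrArg Subtype.val h)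
    rw [show (fun k : K => ∑ x : G, F (x⁻¹ * k * x)) = ((Nat.card H : ℂ) * eK) • φK by
      funext k
      rw [← hχval, Pi.smul_apply, smul_eq_mul, mul_assoc]
      congr 1
      exact congrFun hKeq k, CfsgLib.Chars.Induced.classInner_smul_left] at hz
    rw [show classInner φK φK = 1 from classInner_irr_self φ₀, mul_one] at hz
    exact (mul_ne_zero hHcard heK) hz
  have hχK : ∀ k : K, χ k = (v : ℂ) * F k := by
    intro k
    have h1 := hχval k
    rw [Finset.sum_congr rfl (g := fun _ => F k) fun x _ => by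
      have hmem : x⁻¹ * (k : G) * x ∈ K := by
        simpa using (inferInstance : K.Normal).conj_mem _ k.2 x⁻¹
      rw [hψK k, hψK ⟨_, hmem⟩]
      have := hinv x⁻¹ k
      simpa using this, Finset.sum_const, Finset.card_univ, ← Nat.card_eq_fintype_card,
      nsmul_eq_mul, ← Subgroup.card_mul_index H, Nat.cast_mul, ← hv, mul_assoc] at h1
    exact mul_left_cancel₀ hHcard h1
  have hχMK : ∀ m ∈ M, m ∉ K → χ m = 0 := by
    intro m hm hmK
    refine indFun_eq_zero_of_forall ϑ fun x hx => hmK ?_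
    have h1 : x⁻¹ * m * x ∈ M ⊓ H := ⟨by simpa using hM.normal.conj_mem _ hm x⁻¹, hx⟩
    rw [hMK] at h1
    simpa [mul_assoc] using (inferInstance : K.Normal).conj_mem _ h1 x
  -- the character on `M`
  obtain ⟨φM, e, hφM, hMeq⟩ := hcon M hM.normal hLM
  have hnormM : ∑ g : G, (if g ∈ M then ‖χ g‖ ^ 2 else 0) = (e : ℝ) ^ 2 * Nat.card M := by
    rw [← sum_subgroup_eq M (fun g => ‖χ g‖ ^ 2), ← sum_norm_sq hφM, Finset.mul_sum]
    refine Finset.sum_congr rfl fun m _ => ?_
    rw [show χ m = (e : ℂ) * φM m from congrFun hMeq m, norm_mul, mul_pow, Complex.norm_natCast]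
  have hev : e ^ 2 = v := by
    have h1 : ∑ g : G, (if g ∈ M then ‖χ g‖ ^ 2 else 0) = (v : ℝ) ^ 2 * Nat.card K := by
      rw [← hnorm K hLK hKH, Finset.mul_sum]
      refine Finset.sum_congr rfl fun g _ => ?_
      by_cases hgK : g ∈ K
      · rw [if_pos (hM.lt.le hgK), if_pos hgK, show χ g = _ from hχK ⟨g, hgK⟩, norm_mul, mul_pow,
          Complex.norm_natCast]
      · by_cases hgM : g ∈ M
        · rw [if_pos hgM, if_neg hgK, hχMK g hgM hgK]; simp
        · rw [if_neg hgM, if_neg hgK, mul_zero]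
    rw [hnormM, hcardM] at h1
    have h2 : e ^ 2 * (Nat.card K * v) = v ^ 2 * Nat.card K := by exact_mod_cast h1
    have hpos : 0 < Nat.card K * v :=
      Nat.mul_pos Nat.card_pos (Nat.pos_of_ne_zero Subgroup.index_ne_zero_of_finite)
    refine Nat.eq_of_mul_eq_mul_right hpos ?_
    rw [h2]; ring
  -- the second chief step
  have hMtop : M ≠ ⊤ := by
    intro h
    apply hv1
    have h1 : ∑ g : G, ‖χ g‖ ^ 2 = (Nat.card G : ℝ) := sum_norm_sq hind
    have h2 : ∑ g : G, (if g ∈ M then ‖χ g‖ ^ 2 else 0) = ∑ g : G, ‖χ g‖ ^ 2 :=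
      Finset.sum_congr rfl fun g _ => if_pos (h ▸ Subgroup.mem_top g)
    rw [hnormM, h1, h, Subgroup.card_top] at h2
    have h3 : e ^ 2 * Nat.card G = 1 * Nat.card G := by rw [one_mul]; exact_mod_cast h2
    rw [← hev, Nat.eq_of_mul_eq_mul_right Nat.card_pos h3]
  obtain ⟨N, hN⟩ := exists_chiefStep M hMtop (isSolvable_quotient_of_le hLM hsolv)
  haveI := hN.normal
  have hLN : L ≤ N := hLM.trans hN.lt.le
  have hHN : H ⊔ N = ⊤ := top_le_iff.1 (hHM ▸ sup_le_sup le_rfl hN.lt.le)
  set Q := N ⊓ H with hQ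
  have hKQ : K ≤ Q := le_inf (hM.lt.le.trans hN.lt.le) hKH
  have hcardN : Nat.card N = Nat.card Q * v := card_eq_inf_mul_index hHN
  have hQn : ¬ Q.Normal := by
    intro hn
    have hQK : Q ≤ K := Subgroup.normal_le_normalCore.2 inf_le_right
    refine hN.lt.not_ge fun n hn' => ?_
    obtain ⟨h, hh, m, hm, rfl⟩ := hdec n
    have hhN : h ∈ N := by
      have := N.mul_mem hn' (N.inv_mem (hN.lt.le hm))
      rwa [mul_inv_cancel_right] at this
    exact M.mul_mem (hM.lt.le (hQK ⟨hhN, hh⟩)) hm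
  have hcop : Nat.Coprime (K.relIndex M) (M.relIndex N) := by
    by_contra hnc
    have hc := hM.commutator_le_of_not_coprime hN hnc
    refine hQn ⟨fun x hx g => ?_⟩
    obtain ⟨h, hh, m, hm, rfl⟩ := hdec g
    have hin : m * x * m⁻¹ ∈ Q := by
      rw [show m * x * m⁻¹ = ⁅m, x⁆ * x by rw [commutatorElement_def, inv_mul_cancel_right]]
      exact Q.mul_mem (hKQ (hc (Subgroup.commutator_mem_commutator hm hx.1))) hx
    rw [show h * m * x * (h * m)⁻¹ = h * (m * x * m⁻¹) * h⁻¹ by group]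
    exact ⟨hN.normal.conj_mem _ hin.1 h, H.mul_mem (H.mul_mem hh hin.2) (H.inv_mem hh)⟩
  have hvrel : K.relIndex M = v := by
    have h : Nat.card K * K.relIndex M = Nat.card M := by
      rw [← Subgroup.relIndex_bot_left, ← Subgroup.relIndex_bot_left M,
        Subgroup.relIndex_mul_relIndex _ _ _ bot_le hM.lt.le]
    exact Nat.eq_of_mul_eq_mul_left Nat.card_pos (h.trans hcardM)
  rw [hvrel, ← hev] at hcop
  -- the character on `N`
  obtain ⟨ξ, e', hξ, hNeq⟩ := hcon N hN.normal hLN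
  have hee : e' = e := by
    let ι : M.subgroupOf N →* M :=
      (Subgroup.subgroupOfEquivOfLe hN.lt.le).toMonoidHom
    let φ' : IrrCharacter (M.subgroupOf N) := ⟨fun x => φM (ι x), by
      refine isIrrCharacter_of_comp (Subgroup.subgroupOfEquivOfLe hN.lt.le).symm.toMonoidHom
        (CfsgLib.Chars.isCharacter_comp (CfsgLib.Chars.isCharacter_coe ⟨φM, hφM⟩) ι) ?_
      convert hφM using 1
      funext x
      simp [ι]⟩
    have hrel : ∀ x : M.subgroupOf N, (e' : ℂ) * ξ x = (e : ℂ) * (φ' : M.subgroupOf N → ℂ) x := by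
      intro x
      have h1 := congrFun hNeq (x : N)
      have h2 := congrFun hMeq (ι x)
      simp only [Pi.smul_apply, smul_eq_mul] at h1 h2
      rw [← h1]
      show _ = (e : ℂ) * φM (ι x)
      rw [← h2]
      rfl
    have he0 : (e : ℂ) ≠ 0 := by
      intro h0
      have h2 := congrFun hMeq 1
      simp only [Pi.smul_apply, smul_eq_mul, h0, zero_mul, OneMemClass.coe_one] at h2
      exact hχ1 h2
    have he'0 : (e' : ℂ) ≠ 0 := by
      intro h0
      have h2 := congrFun hNeq 1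
      simp only [Pi.smul_apply, smul_eq_mul, h0, zero_mul, OneMemClass.coe_one] at h2
      exact hχ1 h2
    have hinner : classInner (fun x : M.subgroupOf N => ξ x) φ' ≠ 0 := by
      intro h0
      have h1 : (fun x : M.subgroupOf N => ξ x) = ((e' : ℂ)⁻¹ * e) • (φ' : M.subgroupOf N → ℂ) := by
        funext x
        rw [Pi.smul_apply, smul_eq_mul, mul_assoc, ← hrel x, ← mul_assoc, inv_mul_cancel₀ he'0,
          one_mul]
      rw [h1, CfsgLib.Chars.Induced.classInner_smul_left, classInner_irr_self, mul_one] at h0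
      exact mul_ne_zero (inv_ne_zero he'0) he0 h0
    set c := charDegree ξ with hc
    set d := charDegree (φ' : M.subgroupOf N → ℂ) with hd
    have hcC : ξ 1 = (c : ℂ) := (CfsgLib.Chars.coe_charDegree ⟨ξ, hξ⟩).symm
    have hdC : (φ' : M.subgroupOf N → ℂ) 1 = (d : ℂ) := (CfsgLib.Chars.coe_charDegree φ').symm
    have hd0 : 0 < d := CfsgLib.Chars.charDegree_pos φ'
    haveI : (M.subgroupOf N).Normal := inferInstance
    obtain ⟨hdc, hidx⟩ :=
      Cfsg.Agent.S0887.result (M.subgroupOf N) ξ hξ (φ' : M.subgroupOf N → ℂ) φ'.2 hinner c d hcC hdC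
    obtain ⟨k, hk⟩ := hdc
    rw [hk, Nat.mul_div_cancel_left k hd0] at hidx
    have h1 : e' * c = e * d := by
      have h := hrel 1
      rw [hdC, show ξ ((1 : M.subgroupOf N) : N) = (c : ℂ) by rw [OneMemClass.coe_one, hcC]] at h
      exact_mod_cast h
    rw [hk] at h1
    have h2 : e' * k = e := Nat.eq_of_mul_eq_mul_right hd0 (by linarith [h1])
    have hk1 : k = 1 := Nat.eq_one_of_dvd_coprimes hcop
      ((dvd_pow (Dvd.intro_left e' h2) two_ne_zero)) (by simpa [Subgroup.relIndex] using hidx)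
    rw [hk1, mul_one] at h2
    exact h2
  subst hee
  have hnormN : ∑ g : G, (if g ∈ N then χ g * conj (χ g) else 0) = (v : ℂ) * Nat.card N := by
    rw [← sum_subgroup_eq N (fun g => χ g * conj (χ g)), ← hev]
    push_cast
    rw [← Complex.ofReal_natCast (Nat.card N), ← sum_norm_sq hξ]
    push_cast
    rw [Finset.mul_sum]
    refine Finset.sum_congr rfl fun n _ => ?_
    rw [show χ n = (e' : ℂ) * ξ n from congrFun hNeq n, map_mul, Complex.conj_natCast,
      ← Complex.mul_conj' (ξ n)]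
    ring
  -- induced function on `N`
  have hχN : ∀ n ∈ N, (Nat.card Q : ℂ) * χ n = ∑ y : N, F ((y : G)⁻¹ * n * y) := by
    intro n _
    have hfib : ∀ g : G, (Finset.univ.filter fun a : N × H => (a.1 : G) * a.2 = g).card =
        Nat.card Q := by
      intro g
      obtain ⟨h₀, hh₀, m₀, hm₀, hg⟩ := hdec g⁻¹
      have hg' : g = m₀⁻¹ * h₀⁻¹ := by rw [← mul_inv_rev, hg, inv_inv]
      rw [Nat.card_eq_fintype_card, ← Finset.card_univ]
      symm
      refine Finset.card_bij (fun q _ =>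
        ((⟨m₀⁻¹ * q, N.mul_mem (N.inv_mem (hN.lt.le hm₀)) (Subgroup.mem_inf.1 q.2).1⟩ : N),
          (⟨(q : G)⁻¹ * h₀⁻¹, H.mul_mem (H.inv_mem (Subgroup.mem_inf.1 q.2).2)
            (H.inv_mem hh₀)⟩ : H))) (fun q _ => ?_) (fun a _ b _ hab => ?_) fun a ha => ?_
      · refine Finset.mem_filter.2 ⟨Finset.mem_univ _, ?_⟩
        show m₀⁻¹ * (q : G) * ((q : G)⁻¹ * h₀⁻¹) = g
        rw [hg']; group
      · have h := congrArg (fun a : N × H => (a.1 : G)) hab
        exact Subtype.ext (mul_left_cancel h)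
      · have ha' := (Finset.mem_filter.1 ha).2
        have hq1 : m₀ * (a.1 : G) ∈ N := N.mul_mem (hN.lt.le hm₀) a.1.2
        have hq2 : m₀ * (a.1 : G) = h₀⁻¹ * (a.2 : G)⁻¹ := by
          rw [eq_mul_inv_iff_mul_eq, mul_assoc, ha', hg', mul_inv_cancel_left]
        have hqQ : m₀ * (a.1 : G) ∈ Q :=
          ⟨hq1, by rw [hq2]; exact H.mul_mem (H.inv_mem hh₀) (H.inv_mem a.2.2)⟩
        refine ⟨⟨_, hqQ⟩, Finset.mem_univ _, Prod.ext (Subtype.ext ?_) (Subtype.ext ?_)⟩
        · show m₀⁻¹ * (m₀ * (a.1 : G)) = a.1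
          rw [inv_mul_cancel_left]
        · show (m₀ * (a.1 : G))⁻¹ * h₀⁻¹ = a.2
          rw [hq2]; group
    have h1 : ∑ a : N × H, F (((a.1 : G) * a.2)⁻¹ * n * ((a.1 : G) * a.2)) =
        (Nat.card Q : ℂ) * ∑ x : G, F (x⁻¹ * n * x) := by
      rw [Finset.mul_sum, ← Finset.sum_fiberwise Finset.univ
        (fun a : N × H => (a.1 : G) * (a.2 : G))]
      refine Finset.sum_congr rfl fun g _ => ?_
      rw [Finset.sum_congr rfl (g := fun _ => F (g⁻¹ * n * g)) fun a ha => by
        rw [(Finset.mem_filter.1 ha).2], Finset.sum_const, hfib, nsmul_eq_mul]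
    have h2 : ∑ a : N × H, F (((a.1 : G) * a.2)⁻¹ * n * ((a.1 : G) * a.2)) =
        (Nat.card H : ℂ) * ∑ y : N, F ((y : G)⁻¹ * n * y) := by
      rw [Fintype.sum_prod_type, Finset.mul_sum]
      refine Finset.sum_congr rfl fun y _ => ?_
      rw [Finset.sum_congr rfl (g := fun _ => F ((y : G)⁻¹ * n * y)) fun h _ => by
        rw [show ((y : G) * h)⁻¹ * n * ((y : G) * h) = (h : G)⁻¹ * ((y : G)⁻¹ * n * y) * ((h : G)⁻¹)⁻¹ by
          group, hFconj _ (H.inv_mem h.2)], Finset.sum_const, Finset.card_univ,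
        ← Nat.card_eq_fintype_card, nsmul_eq_mul]
    rw [h1, ← hχval, mul_left_comm] at h2
    exact mul_left_cancel₀ hHcard h2
  have hQ0 : (Nat.card Q : ℂ) ≠ 0 := card_subgroup_ne_zero Q
  have hinnerQ : ∑ q : Q, F q * conj (χ q) = (v : ℂ) * Nat.card Q := by
    have h1 : (Nat.card Q : ℂ) * ∑ g : G, (if g ∈ N then χ g * conj (χ g) else 0) =
        (Nat.card N : ℂ) * ∑ q : Q, F q * conj (χ q) := by
      rw [← sum_subgroup_eq N (fun g => χ g * conj (χ g)), Finset.mul_sum]
      simp only [← mul_assoc]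
      rw [Finset.sum_congr rfl fun n (_ : n ∈ Finset.univ) => by
        rw [hχN n n.2, Finset.sum_mul], Finset.sum_comm]
      rw [Finset.sum_congr rfl (g := fun _ => ∑ q : Q, F q * conj (χ q)), Finset.sum_const,
        Finset.card_univ, ← Nat.card_eq_fintype_card, nsmul_eq_mul]
      intro y _
      rw [sum_subgroup_eq Q (fun g => F g * conj (χ g))]
      rw [Fintype.sum_equiv (MulAut.conjNormal (y : G)⁻¹).toEquiv _
        (fun n : N => F n * conj (χ n)) fun n => ?_]
      · rw [sum_subgroup_eq N (fun g => F g * conj (χ g))]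
        refine Finset.sum_congr rfl fun g _ => ?_
        by_cases hgN : g ∈ N
        · by_cases hgH : g ∈ H
          · rw [if_pos hgN, if_pos (show g ∈ Q from ⟨hgN, hgH⟩)]
          · rw [if_pos hgN, if_neg (fun h : g ∈ Q => hgH h.2), hF, extendByZero_notMem ϑ hgH,
              zero_mul]
        · rw [if_neg hgN, if_neg (fun h : g ∈ Q => hgN h.1)]
      · simp only [MulEquiv.toEquiv_eq_coe, EquivLike.coe_coe, MulAut.conjNormal_apply]
        rw [inv_inv]
        congr 2
        exact (classFun_inv_conj hχcf (y : G) n).symm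
    rw [hnormN, hcardN] at h1
    push_cast at h1
    have hN0 : (Nat.card Q : ℂ) * v ≠ 0 := mul_ne_zero hQ0
      (Nat.cast_ne_zero.2 Subgroup.index_ne_zero_of_finite)
    refine mul_left_cancel₀ hN0 ?_
    rw [← h1]; ring
  have hdouble : ∑ y : N, ∑ q : Q, F q * conj (F ((y : G)⁻¹ * q * y)) =
      (v : ℂ) * Nat.card Q * Nat.card Q := by
    rw [← hinnerQ, Finset.sum_comm, Finset.sum_mul]
    refine Finset.sum_congr rfl fun q _ => ?_
    rw [← Finset.mul_sum, ← map_sum, ← hχN q (Subgroup.mem_inf.1 q.2).1, map_mul,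
      Complex.conj_natCast]
    ring
  -- the bound
  let R : N → Subgroup G := fun y => Q ⊓ Q.map (MulAut.conj (y : G)).toMonoidHom
  have hbound : ∀ y : N, (∑ q : Q, F q * conj (F ((y : G)⁻¹ * q * y))).re ≤ (Nat.card (R y) : ℝ) := by
    intro y
    have hK : K ≤ R y := fun k hk => ⟨hKQ hk, (y : G)⁻¹ * k * y,
      hKQ (by simpa using (inferInstance : K.Normal).conj_mem _ hk (y : G)⁻¹),
      by simp [mul_assoc]⟩
    set R' := (R y).map (MulAut.conj (y : G)⁻¹).toMonoidHom with hR'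
    have hR'Q : R' ≤ Q := by
      rintro _ ⟨r, ⟨-, q, hq, rfl⟩, rfl⟩
      simpa [mul_assoc] using hq
    have hR'K : K ≤ R' := fun k hk => ⟨(y : G) * k * (y : G)⁻¹,
      hK ((inferInstance : K.Normal).conj_mem _ hk _), by simp [mul_assoc]⟩
    have hcardR : Nat.card R' = Nat.card (R y) :=
      Subgroup.card_map_of_injective (MulAut.conj (y : G)⁻¹).injective
    have hpt : ∀ g : G, ((if g ∈ Q then F g * conj (F ((y : G)⁻¹ * g * y)) else 0) : ℂ).re ≤
        ((if g ∈ R y then ‖F g‖ ^ 2 else 0) +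
          (if (y : G)⁻¹ * g * y ∈ R' then ‖F ((y : G)⁻¹ * g * y)‖ ^ 2 else 0)) / 2 := by
      intro g
      by_cases hgR : g ∈ R y
      · have hg' : (y : G)⁻¹ * g * y ∈ R' := ⟨g, hgR, by simp⟩
        rw [if_pos (Subgroup.mem_inf.1 hgR).1, if_pos hgR, if_pos hg']
        refine (Complex.re_le_norm _).trans ?_
        rw [norm_mul, Complex.norm_conj]
        nlinarith [sq_nonneg (‖F g‖ - ‖F ((y : G)⁻¹ * g * y)‖)]
      · refine le_of_eq_of_le (b := 0) ?_ (by positivity)
        by_cases hgQ : g ∈ Q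
        · rw [if_pos hgQ]
          have hnH : (y : G)⁻¹ * g * y ∉ H := fun h => hgR ⟨hgQ, (y : G)⁻¹ * g * y,
            ⟨N.mul_mem (N.mul_mem (N.inv_mem y.2) hgQ.1) y.2, h⟩, by simp [mul_assoc]⟩
          rw [hF, extendByZero_notMem ϑ hnH]
          simp
        · rw [if_neg hgQ]; simp
    rw [sum_subgroup_eq Q (fun g => F g * conj (F ((y : G)⁻¹ * g * y))), Complex.re_sum]
    refine (Finset.sum_le_sum fun g _ => hpt g).trans ?_
    rw [← Finset.sum_div, Finset.sum_add_distrib, hnorm (R y) (hLK.trans hK) (inf_le_left.trans inf_le_right),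
      Fintype.sum_equiv (MulAut.conj (y : G)⁻¹).toEquiv _
        (fun g => if g ∈ R' then ‖F g‖ ^ 2 else 0) (fun g => by simp),
      hnorm R' (hLK.trans hR'K) (hR'Q.trans inf_le_right), hcardR]
    linarith
  have hex : ∃ y : N, Nat.card (R y) < Nat.card Q := by
    by_contra h
    push Not at h
    refine hQn ⟨fun x hx g => ?_⟩
    obtain ⟨a, ha, m, hm, rfl⟩ := hdec g
    have hm' : m⁻¹ ∈ N := N.inv_mem (hN.lt.le hm)
    have he := Subgroup.eq_of_le_of_card_ge (inf_le_left : R ⟨m⁻¹, hm'⟩ ≤ Q) (h _)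
    have hxR : x ∈ R ⟨m⁻¹, hm'⟩ := (SetLike.ext_iff.1 he x).2 hx
    obtain ⟨q, hq, hqx⟩ := hxR.2
    have hin : m * x * m⁻¹ ∈ Q := by
      rw [← hqx]
      simpa [mul_assoc] using hq
    rw [show a * m * x * (a * m)⁻¹ = a * (m * x * m⁻¹) * a⁻¹ by group]
    exact ⟨hN.normal.conj_mem _ hin.1 a, H.mul_mem (H.mul_mem ha hin.2) (H.inv_mem ha)⟩
  obtain ⟨y₀, hy₀⟩ := hex
  have hlt : ∑ y : N, (Nat.card (R y) : ℝ) < ∑ _y : N, (Nat.card Q : ℝ) := by
    refine Finset.sum_lt_sum (fun y _ => ?_) ⟨y₀, Finset.mem_univ _, by exact_mod_cast hy₀⟩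
    exact_mod_cast Subgroup.card_le_of_le inf_le_left
  have hle := congrArg Complex.re hdouble
  rw [Complex.re_sum] at hle
  have h3 : ((v : ℂ) * Nat.card Q * Nat.card Q).re = (v : ℝ) * Nat.card Q * Nat.card Q := by simp
  rw [h3] at hle
  rw [Finset.sum_const, Finset.card_univ, ← Nat.card_eq_fintype_card, hcardN, nsmul_eq_mul,
    Nat.cast_mul] at hlt
  have h4 := Finset.sum_le_sum (s := (Finset.univ : Finset N)) fun y _ => hbound y
  nlinarith [h4, hlt, hle]

end CfsgLib.Chars.Quasiprimitive
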